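import Groth.Agent.ModPairLib.Basic
import Groth.Agent.H23.StalkPrimes
import Groth.Agent.CDiv6.Normal
import Groth.Agent.S7125
import Groth.Prelude.Def_CInt

/-!
# Stalks of locally principal ideal sheaves and equality of Cartier divisors
-/

universe u

open AlgebraicGeometry CategoryTheory TopologicalSpace IsLocalRing

namespace Groth.Agent.CDivEq

variable {X : Scheme.{u}}

/-- The stalk of an ideal sheaf, computed on an affine open. -/
noncomputable abbrev stk (I : X.IdealSheafData) (U : X.affineOpens) {x : X} (hx : x ∈ U.1) :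
    Ideal (X.presheaf.stalk x) :=
  (I.ideal U).map (X.presheaf.germ U.1 x hx).hom

theorem stk_of_le (I : X.IdealSheafData) {U W : X.affineOpens} (h : W.1 ≤ U.1) {x : X} (hx : x ∈ W.1) :
    stk I W hx = stk I U (h hx) := by
  rw [stk, stk, ← I.map_ideal (U := W) (V := U) h, Ideal.map_map, ← CommRingCat.hom_comp]
  congr 2
  exact X.presheaf.germ_res _ _ _

theorem stk_congr (I : X.IdealSheafData) (U V : X.affineOpens) {x : X} (hU : x ∈ U.1) (hV : x ∈ V.1) :
    stk I U hU = stk I V hV := by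
  obtain ⟨_, ⟨W, hW, rfl⟩, hxW, hWle⟩ :=
    X.isBasis_affineOpens.exists_subset_of_mem_open (show x ∈ (U.1 ⊓ V.1 : X.Opens) from ⟨hU, hV⟩)
      (U.1 ⊓ V.1).isOpen
  rw [← stk_of_le I (U := U) (W := ⟨W, hW⟩) (fun y hy => (hWle hy).1) hxW,
    ← stk_of_le I (U := V) (W := ⟨W, hW⟩) (fun y hy => (hWle hy).2) hxW]

theorem mem_support_iff (I : X.IdealSheafData) (U : X.affineOpens) {x : X} (hx : x ∈ U.1) :
    x ∈ (I.support : Set X) ↔ stk I U hx ≠ ⊤ := by
  have h1 : x ∈ (I.support : Set X) ↔ x ∈ X.zeroLocus (U := U.1) (I.ideal U : Set Γ(X, U.1)) := by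
    have := Set.ext_iff.1 (I.coe_support_inter U) x
    simpa [hx] using this
  rw [h1, Scheme.mem_zeroLocus_iff]
  constructor
  · intro h htop
    have hle : stk I U hx ≤ maximalIdeal _ := Ideal.map_le_iff_le_comap.2 fun f hf => by
      rw [Ideal.mem_comap, IsLocalRing.mem_maximalIdeal, mem_nonunits_iff]
      exact fun hu => h f hf (by rw [Scheme.mem_basicOpen _ _ _ hx]; exact hu)
    rw [htop] at hle
    exact (maximalIdeal.isMaximal _).ne_top (top_le_iff.1 hle)
  · intro h f hf hxf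
    rw [Scheme.mem_basicOpen _ _ _ hx] at hxf
    exact h (Ideal.eq_top_of_isUnit_mem _ (Ideal.mem_map_of_mem _ hf) hxf)

theorem germ_mem_nonZeroDivisors (U : X.affineOpens) {x : X} (hx : x ∈ U.1) {g : Γ(X, U.1)}
    (hg : g ∈ nonZeroDivisors Γ(X, U.1)) :
    X.presheaf.germ U.1 x hx g ∈ nonZeroDivisors (X.presheaf.stalk x) := by
  letI := X.presheaf.algebra_section_stalk (U := U.1) ⟨x, hx⟩
  haveI := U.2.isLocalization_stalk ⟨x, hx⟩
  exact IsLocalization.nonZeroDivisors_le_comap (U.2.primeIdealOf ⟨x, hx⟩).asIdeal.primeCompl (X.presheaf.stalk x) hg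

/-- Generators at stalks of a locally principal ideal sheaf. -/
theorem exists_gen (I : X.IdealSheafData)
    (hI : ∀ x : X, ∃ U : X.affineOpens, x ∈ (U : X.Opens) ∧ ∃ g : Γ(X, U), g ∈ nonZeroDivisors Γ(X, U) ∧ I.ideal U = Ideal.span {g})
    (U : X.affineOpens) {x : X} (hx : x ∈ U.1) :
    ∃ g : X.presheaf.stalk x, g ∈ nonZeroDivisors (X.presheaf.stalk x) ∧ stk I U hx = Ideal.span {g} := by
  obtain ⟨V, hV, g, hg, hVg⟩ := hI x
  refine ⟨X.presheaf.germ V.1 x hV g, germ_mem_nonZeroDivisors V hV hg, ?_⟩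
  rw [stk_congr I U V hx hV, stk, hVg, Ideal.map_span, Set.image_singleton]

theorem le_of_stk (I J : X.IdealSheafData) (U : X.affineOpens)
    (h : ∀ x (hx : x ∈ U.1), stk I U hx ≤ stk J U hx) : I.ideal U ≤ J.ideal U := by
  intro f hf
  by_contra hfJ
  have htop : (J.ideal U).colon {f} ≠ ⊤ := fun ht => hfJ (by
    simpa using Submodule.mem_colon_singleton.1 (show (1 : Γ(X, U.1)) ∈ (J.ideal U).colon {f} by rw [ht]; trivial))
  obtain ⟨m, hm, hle⟩ := Ideal.exists_le_maximal _ htop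
  let x : X := U.2.fromSpec ⟨m, hm.isPrime⟩
  have hx : x ∈ U.1 := by
    rw [← SetLike.mem_coe, ← U.2.range_fromSpec]
    exact Set.mem_range_self _
  haveI := U.2.isOpenImmersion_fromSpec
  have hprime : U.2.primeIdealOf ⟨x, hx⟩ = ⟨m, hm.isPrime⟩ :=
    U.2.fromSpec.isOpenEmbedding.injective (U.2.fromSpec_primeIdealOf _)
  letI := X.presheaf.algebra_section_stalk (U := U.1) ⟨x, hx⟩
  haveI := U.2.isLocalization_stalk ⟨x, hx⟩
  have h1 : algebraMap Γ(X, U.1) (X.presheaf.stalk x) f ∈ (J.ideal U).map (algebraMap Γ(X, U.1) (X.presheaf.stalk x)) :=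
    h x hx (Ideal.mem_map_of_mem _ hf)
  rw [IsLocalization.algebraMap_mem_map_algebraMap_iff (U.2.primeIdealOf ⟨x, hx⟩).asIdeal.primeCompl] at h1
  obtain ⟨s, hs, hsf⟩ := h1
  exact hs (by rw [hprime]; exact hle (Submodule.mem_colon_singleton.2 hsf))

theorem ideal_eq_top (I : X.IdealSheafData) (U : X.affineOpens)
    (h : Disjoint (I.support : Set X) U.1) : I.ideal U = ⊤ := by
  refine top_le_iff.1 ?_
  have h1 := le_of_stk ⊤ I U fun y hy => le_of_le_of_eq le_top (Eq.symm ?_)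
  · simpa using h1
  · by_contra hne
    exact Set.disjoint_right.1 h hy ((mem_support_iff I U hy).2 hne)

theorem eq_of_pow_eq_pow {A : Type*} [CommRing A] {g : A} (hg : g ∈ nonZeroDivisors A) (hu : ¬ IsUnit g)
    {a b : ℕ} (h : Ideal.span {g} ^ a = Ideal.span {g} ^ b) : a = b := by
  rw [Ideal.span_singleton_pow, Ideal.span_singleton_pow] at h
  by_contra hne
  wlog hab : a < b generalizing a b
  · exact this h.symm (Ne.symm hne) (by omega)
  obtain ⟨c, hc⟩ := Ideal.mem_span_singleton'.1 (h.le (Ideal.mem_span_singleton_self (g ^ a)))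
  obtain ⟨k, rfl⟩ : ∃ k, b = a + (k + 1) := ⟨b - a - 1, by omega⟩
  refine hu (IsUnit.of_mul_eq_one (c * g ^ k) ?_)
  apply mul_cancel_right_mem_nonZeroDivisors (pow_mem hg a) |>.1
  rw [one_mul]
  linear_combination hc

section Ratio

variable (D E : X.IdealSheafData)
  (hD : ∀ x : X, ∃ U : X.affineOpens, x ∈ (U : X.Opens) ∧ ∃ g : Γ(X, U), g ∈ nonZeroDivisors Γ(X, U) ∧ D.ideal U = Ideal.span {g})
  (hE : ∀ x : X, ∃ U : X.affineOpens, x ∈ (U : X.Opens) ∧ ∃ g : Γ(X, U), g ∈ nonZeroDivisors Γ(X, U) ∧ E.ideal U = Ideal.span {g})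

include hD hE

/-- Two relations at a point of the support are proportional. -/
theorem proportional {U U' : X.affineOpens} {x : X} (hx : x ∈ U.1) (hx' : x ∈ U'.1)
    (hS : x ∈ (D.support : Set X) ∪ E.support) {m n m' n' : ℕ}
    (h : D.ideal U ^ m = E.ideal U ^ n) (h' : D.ideal U' ^ m' = E.ideal U' ^ n') : m * n' = m' * n := by
  obtain ⟨g, hg, hDg⟩ := exists_gen D hD U hx
  obtain ⟨k, hk, hEk⟩ := exists_gen E hE U hx
  have r1 : Ideal.span {g} ^ m = Ideal.span {k} ^ n := by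
    rw [← hDg, ← hEk, stk, stk, ← Ideal.map_pow, ← Ideal.map_pow, h]
  have r2 : Ideal.span {g} ^ m' = Ideal.span {k} ^ n' := by
    rw [← hDg, ← hEk, stk_congr D U U' hx hx', stk_congr E U U' hx hx', stk, stk, ← Ideal.map_pow,
      ← Ideal.map_pow, h']
  rcases hS with hS | hS
  · rw [mem_support_iff D U hx, hDg] at hS
    refine eq_of_pow_eq_pow hg (fun hu => hS (Ideal.span_singleton_eq_top.2 hu)) ?_
    rw [pow_mul, r1, ← pow_mul, mul_comm n n', pow_mul, ← r2, ← pow_mul]
  · rw [mem_support_iff E U hx, hEk] at hS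
    exact (eq_of_pow_eq_pow hk (fun hu => hS (Ideal.span_singleton_eq_top.2 hu))
      (show Ideal.span {k} ^ (m' * n) = Ideal.span {k} ^ (m * n') by
        rw [mul_comm m' n, pow_mul, ← r1, ← pow_mul, mul_comm m m', pow_mul, r2, ← pow_mul, mul_comm n' m])).symm

theorem exists_pow_eq_pow [IsNoetherian X]
    (hconn : IsPreconnected ((D.support : Set X) ∪ (E.support : Set X)))
    (hloc : ∀ x : X, ∃ U : X.affineOpens, x ∈ (U : X.Opens) ∧
      ∃ m n : ℕ, (m, n) ≠ (0, 0) ∧ D.ideal U ^ m = E.ideal U ^ n) :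
    ∃ m n : ℕ, (m, n) ≠ (0, 0) ∧ ∀ U : X.affineOpens, D.ideal U ^ m = E.ideal U ^ n := by
  classical
  choose W hW m n hne hrel using hloc
  set S : Set X := (D.support : Set X) ∪ E.support with hSdef
  have hpos : ∀ x, 0 < m x + n x := fun x => by
    by_contra h
    exact hne x (Prod.ext (by simp only; omega) (by simp only; omega))
  have htop : ∀ x : X, Disjoint S (W x).1 → D.ideal (W x) = ⊤ ∧ E.ideal (W x) = ⊤ := fun x hdisj =>
    ⟨ideal_eq_top D _ (hdisj.mono_left Set.subset_union_left),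
      ideal_eq_top E _ (hdisj.mono_left Set.subset_union_right)⟩
  -- reference ratio
  obtain ⟨a, b, hab, hratio⟩ : ∃ a b : ℕ, 0 < a + b ∧ ∀ x : X, ¬ Disjoint S (W x).1 → m x * b = a * n x := by
    rcases S.eq_empty_or_nonempty with hS | ⟨x₀, hx₀⟩
    · exact ⟨1, 0, one_pos, fun x hx => absurd (by simp [hS]) hx⟩
    refine ⟨m x₀, n x₀, hpos x₀, fun x hx => ?_⟩
    obtain ⟨y, hyS, hyx⟩ := Set.not_disjoint_iff.1 hx
    let A : Set X := ⋃ z ∈ {z : X | m z * n x₀ = m x₀ * n z}, ((W z).1 : Set X)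
    let B : Set X := ⋃ z ∈ {z : X | m z * n x₀ ≠ m x₀ * n z}, ((W z).1 : Set X)
    have hA : IsOpen A := isOpen_biUnion fun z _ => (W z).1.isOpen
    have hB : IsOpen B := isOpen_biUnion fun z _ => (W z).1.isOpen
    by_contra hx'
    obtain ⟨w, hwS, hwA, hwB⟩ := hconn A B hA hB (fun w _ => by
        by_cases hw : m w * n x₀ = m x₀ * n w
        · exact Or.inl (Set.mem_biUnion hw (hW w))
        · exact Or.inr (Set.mem_biUnion hw (hW w)))
      ⟨x₀, hx₀, Set.mem_biUnion (x := x₀) rfl (hW x₀)⟩ ⟨y, hyS, Set.mem_biUnion (x := x) hx' hyx⟩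
    obtain ⟨z₁, hz₁, hw₁⟩ := Set.mem_iUnion₂.1 hwA
    obtain ⟨z₂, hz₂, hw₂⟩ := Set.mem_iUnion₂.1 hwB
    have hp := proportional D E hD hE hw₁ hw₂ hwS (hrel z₁) (hrel z₂)
    apply hz₂
    rcases Nat.eq_zero_or_pos (m z₁) with h1 | h1
    · have hn1 : 0 < n z₁ := by have := hpos z₁; omega
      have hm2 : m z₂ = 0 := by simpa [h1, hn1.ne'] using hp.symm
      have hm0 : m x₀ = 0 := by simpa [h1, hn1.ne'] using (Set.mem_setOf.1 hz₁).symm
      simp [hm2, hm0]
    · refine Nat.eq_of_mul_eq_mul_left h1 ?_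
      calc m z₁ * (m z₂ * n x₀) = m z₂ * (m z₁ * n x₀) := by ring
        _ = m z₂ * (m x₀ * n z₁) := by rw [Set.mem_setOf.1 hz₁]
        _ = m x₀ * (m z₂ * n z₁) := by ring
        _ = m x₀ * (m z₁ * n z₂) := by rw [← hp]
        _ = m z₁ * (m x₀ * n z₂) := by ring
  obtain ⟨t, ht⟩ := CompactSpace.elim_nhds_subcover (fun x => ((W x).1 : Set X))
    (fun x => (W x).1.isOpen.mem_nhds (hW x))
  let P : ℕ := ∏ x ∈ t, (m x + n x)
  have hP : 0 < P := Finset.prod_pos fun x _ => hpos x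
  refine ⟨a * P, b * P, ?_, fun U => ?_⟩
  · intro h
    simp only [Prod.mk.injEq, mul_eq_zero, hP.ne', or_false] at h
    omega
  · suffices h : D ^ (a * P) = E ^ (b * P) by
      simpa only [Scheme.IdealSheafData.ideal_pow, Pi.pow_apply] using
        congrArg (fun I : X.IdealSheafData => I.ideal U) h
    refine Scheme.IdealSheafData.ext_of_iSup_eq_top (fun x : t => W x.1) ?_ fun x => ?_
    · rw [eq_top_iff]
      intro y _
      have hy : y ∈ ⋃ x ∈ t, ((W x).1 : Set X) := ht ▸ Set.mem_univ y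
      obtain ⟨x, hxt, hyx⟩ := Set.mem_iUnion₂.1 hy
      exact TopologicalSpace.Opens.mem_iSup.2 ⟨⟨x, hxt⟩, hyx⟩
    · rw [Scheme.IdealSheafData.ideal_pow, Scheme.IdealSheafData.ideal_pow, Pi.pow_apply, Pi.pow_apply]
      by_cases hdisj : Disjoint S (W x.1).1
      · rw [(htop _ hdisj).1, (htop _ hdisj).2, Ideal.top_pow, Ideal.top_pow]
      · obtain ⟨R, hR⟩ : m x.1 + n x.1 ∣ P := Finset.dvd_prod_of_mem _ x.2
        have h := hratio _ hdisj
        have e1 : a * P = m x.1 * ((a + b) * R) := by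
          rw [hR, ← mul_assoc, ← mul_assoc]; congr 1; linarith [h]
        have e2 : b * P = n x.1 * ((a + b) * R) := by
          rw [hR, ← mul_assoc, ← mul_assoc]; congr 1; linarith [h]
        rw [e1, e2, pow_mul (D.ideal (W x.1)), hrel, ← pow_mul]

end Ratio

section Pullback

/-- Equality of the pullback makes the stalk generators associated at a point with discrete valuation
stalk, as soon as the pullback of the equation does not vanish near a preimage. -/
theorem eq_of_comap_eq {S S' : Scheme.{u}} [IsLocallyNoetherian S]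
    (hnorm : ∀ x : S, IsDomain (S.presheaf.stalk x) ∧ IsIntegrallyClosed (S.presheaf.stalk x))
    (f : S' ⟶ S) (hsurj : Function.Surjective f)
    (U : S.Opens) (hU' : CInt.IsSchematicallyDense (f ⁻¹ᵁ U))
    (D E : S.IdealSheafData)
    (hD : ∀ x : S, ∃ U : S.affineOpens, x ∈ (U : S.Opens) ∧ ∃ g : Γ(S, U), g ∈ nonZeroDivisors Γ(S, U) ∧ D.ideal U = Ideal.span {g})
    (hE : ∀ x : S, ∃ U : S.affineOpens, x ∈ (U : S.Opens) ∧ ∃ g : Γ(S, U), g ∈ nonZeroDivisors Γ(S, U) ∧ E.ideal U = Ideal.span {g})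
    (hDU : (D.support : Set S) ⊆ (U : Set S)ᶜ) (hEU : (E.support : Set S) ⊆ (U : Set S)ᶜ)
    (h : D.comap f = E.comap f) : D = E := by
  -- step 1: no equation vanishes at a point above
  have hne : ∀ (F : S.IdealSheafData), (F.support : Set S) ⊆ (U : Set S)ᶜ →
      (∀ x : S, ∃ U : S.affineOpens, x ∈ (U : S.Opens) ∧ ∃ g : Γ(S, U), g ∈ nonZeroDivisors Γ(S, U) ∧ F.ideal U = Ideal.span {g}) →
      ∀ (s' : S') (W : S.affineOpens) (hs : f s' ∈ W.1),
        (stk F W hs).map (f.stalkMap s').hom ≠ ⊥ := by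
    intro F hFU hF s' W hs hbot
    obtain ⟨V, hV, g, -, hVg⟩ := hF (f s')
    rw [stk_congr F W V hs hV, stk, hVg, Ideal.map_span, Set.image_singleton, Ideal.map_span,
      Set.image_singleton, Ideal.span_singleton_eq_bot] at hbot
    have h0 : S'.presheaf.germ (f ⁻¹ᵁ V.1) s' hV (f.app V.1 g) = S'.presheaf.germ (f ⁻¹ᵁ V.1) s' hV 0 := by
      rw [map_zero, ← Scheme.Hom.germ_stalkMap_apply]
      exact hbot
    obtain ⟨V', hsV', i₁, i₂, h1⟩ := S'.presheaf.germ_eq s' hV hV _ _ h0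
    rw [map_zero] at h1
    have hu : IsUnit (S.presheaf.map (homOfLE (inf_le_left : V.1 ⊓ U ≤ V.1)).op g) := by
      refine S.toRingedSpace.isUnit_of_isUnit_germ _ _ fun y hy => ?_
      have hy' : y ∉ (F.support : Set S) := fun hm => hFU hm hy.2
      rw [mem_support_iff F V hy.1, not_not, stk, hVg, Ideal.map_span, Set.image_singleton,
        Ideal.span_singleton_eq_top] at hy'
      exact (S.presheaf.germ_res_apply (homOfLE inf_le_left) y hy g).symm ▸ hy'
    have h2 := (hu.map (f.app (V.1 ⊓ U)).hom).map (S'.presheaf.map (homOfLE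
      (show V' ⊓ f ⁻¹ᵁ U ≤ f ⁻¹ᵁ (V.1 ⊓ U) from fun z hz => ⟨i₁.le hz.1, hz.2⟩)).op).hom
    have h3 : (S'.presheaf.map (homOfLE (show V' ⊓ f ⁻¹ᵁ U ≤ f ⁻¹ᵁ (V.1 ⊓ U) from fun z hz => ⟨i₁.le hz.1, hz.2⟩)).op)
        (f.app (V.1 ⊓ U) (S.presheaf.map (homOfLE (inf_le_left : V.1 ⊓ U ≤ V.1)).op g)) =
        S'.presheaf.map (homOfLE (inf_le_left : V' ⊓ f ⁻¹ᵁ U ≤ V')).op (S'.presheaf.map i₁.op (f.app V.1 g)) := by
      rw [← ConcreteCategory.comp_apply, ← ConcreteCategory.comp_apply, ← ConcreteCategory.comp_apply,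
        ← ConcreteCategory.comp_apply, ← Category.assoc, f.naturality, Category.assoc,
        ← Functor.map_comp, ← Functor.map_comp]
      rfl
    rw [h1, map_zero] at h3
    erw [h3] at h2
    have h4 : (1 : Γ(S', V' ⊓ f ⁻¹ᵁ U)) = 0 := by
      obtain ⟨u, hu⟩ := h2
      rw [← u.inv_mul, hu, mul_zero]
    have h5 : (1 : Γ(S', V')) = 0 := hU' V' (by rw [map_one, map_zero]; exact h4)
    exact one_ne_zero (α := S'.presheaf.stalk s')
      (by rw [← map_one (S'.presheaf.germ V' s' hsV').hom, h5, map_zero])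
  -- step 2: the two divisors agree at points with discrete valuation stalk
  have hdvr : ∀ (y : S) (W : S.affineOpens) (hy : y ∈ W.1) [IsDomain (S.presheaf.stalk y)]
      [IsDiscreteValuationRing (S.presheaf.stalk y)], stk D W hy = stk E W hy := by
    intro y W hy _ _
    obtain ⟨s', rfl⟩ := hsurj y
    obtain ⟨g, hg, hDg⟩ := exists_gen D hD W hy
    obtain ⟨k, hk, hEk⟩ := exists_gen E hE W hy
    obtain ⟨ϖ, hϖ⟩ := IsDiscreteValuationRing.exists_irreducible (S.presheaf.stalk (f s'))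
    obtain ⟨a, ha⟩ := IsDiscreteValuationRing.ideal_eq_span_pow_irreducible
      (s := Ideal.span {g}) (by simpa using nonZeroDivisors.ne_zero hg) hϖ
    obtain ⟨b, hb⟩ := IsDiscreteValuationRing.ideal_eq_span_pow_irreducible
      (s := Ideal.span {k}) (by simpa using nonZeroDivisors.ne_zero hk) hϖ
    have he : (stk D W hy).map (f.stalkMap s').hom = (stk E W hy).map (f.stalkMap s').hom := by
      obtain ⟨_, ⟨V, hV, rfl⟩, hsV, hVle⟩ := S'.isBasis_affineOpens.exists_subset_of_mem_open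
        (show s' ∈ f ⁻¹ᵁ W.1 from hy) (f ⁻¹ᵁ W.1).isOpen
      have key : ∀ I : S.IdealSheafData, (stk I W hy).map (f.stalkMap s').hom =
          stk (I.comap f) ⟨V, hV⟩ hsV := fun I => by
        rw [stk, stk, ModPairLib.ideal_comap I f W ⟨V, hV⟩ hVle, Ideal.map_map, Ideal.map_map,
          ← CommRingCat.hom_comp, ← CommRingCat.hom_comp]
        congr 2
        rw [Scheme.Hom.germ_stalkMap]
        simp only [Scheme.Hom.appLE, Category.assoc, TopCat.Presheaf.germ_res]
      rw [key, key, h]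
    have hD0 := hne D hDU hD s' W hy
    have hE0 := hne E hEU hE s' W hy
    rw [hDg, ha] at hD0 he ⊢
    rw [hEk, hb] at hE0 he ⊢
    simp only [Ideal.map_span, Set.image_singleton, map_pow, Ne, Ideal.span_singleton_eq_bot] at he hD0 hE0
    have hπ : ¬ IsUnit ((f.stalkMap s').hom ϖ) := fun hu => hϖ.not_isUnit (isUnit_of_map_unit _ _ hu)
    have key : ∀ a b : ℕ, Ideal.span {(f.stalkMap s').hom ϖ ^ a} = Ideal.span {(f.stalkMap s').hom ϖ ^ b} →
        (f.stalkMap s').hom ϖ ^ a ≠ 0 → ¬ a < b := by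
      intro a b hab h0 hlt
      obtain ⟨c, hc⟩ := Ideal.mem_span_singleton'.1 (hab.le (Ideal.mem_span_singleton_self _))
      obtain ⟨j, rfl⟩ : ∃ j, b = a + (j + 1) := ⟨b - a - 1, by omega⟩
      refine h0 ?_
      have hz : (f.stalkMap s').hom ϖ ^ a * (1 - c * (f.stalkMap s').hom ϖ ^ (j + 1)) = 0 := by
        linear_combination -hc
      refine (IsUnit.mul_left_eq_zero ?_).1 hz
      refine IsLocalRing.isUnit_one_sub_self_of_mem_nonunits _ fun hu => hπ ?_
      exact (isUnit_pow_iff (Nat.succ_ne_zero j)).1 (isUnit_of_mul_isUnit_right hu)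
    have hab : a = b := le_antisymm (not_lt.1 (key b a he.symm hE0)) (not_lt.1 (key a b he hD0))
    rw [hab]
  -- step 3: conclude at all stalks
  have hfinal : ∀ (W : S.affineOpens) (x : S) (hx : x ∈ W.1) (F G : S.IdealSheafData)
      (g k : S.presheaf.stalk x), stk F W hx = Ideal.span {g} → stk G W hx = Ideal.span {k} → k ≠ 0 →
      (∀ (y : S) (W : S.affineOpens) (hy : y ∈ W.1) [IsDomain (S.presheaf.stalk y)]
        [IsDiscreteValuationRing (S.presheaf.stalk y)], stk F W hy ≤ stk G W hy) →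
      stk F W hx ≤ stk G W hx := by
    intro W x hx F G g k hF hG hk hle
    rw [hF, hG, Ideal.span_singleton_le_span_singleton]
    haveI := (hnorm x).1
    haveI := (hnorm x).2
    refine S7125.dvd_of_forall_height_one hk fun p _ hp hkp => ?_
    obtain ⟨y, hyx, hpy⟩ := H23.StalkPrimes.exists_point p
    letI := (S.presheaf.stalkSpecializes hyx).hom.toAlgebra
    haveI : IsLocalization.AtPrime (S.presheaf.stalk y) p := by
      have := H23.StalkPrimes.isLocalization_primeOf hyx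
      simp only [IsLocalization.AtPrime, hpy] at this ⊢
      exact this
    haveI := (hnorm y).1
    haveI := (hnorm y).2
    haveI : IsDiscreteValuationRing (S.presheaf.stalk y) := CDiv6.isDVR_of_dim_eq_one _ (by
      rw [IsLocalization.AtPrime.ringKrullDim_eq_height p (S.presheaf.stalk y), hp]; rfl)
    have hyW : y ∈ W.1 := hyx.mem_open W.1.isOpen hx
    have hh := hle y W hyW
    have e : ∀ I : S.IdealSheafData, stk I W hyW = (stk I W hx).map (algebraMap _ (S.presheaf.stalk y)) := fun I => by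
      rw [stk, stk, Ideal.map_map, RingHom.algebraMap_toAlgebra, ← CommRingCat.hom_comp,
        S.presheaf.germ_stalkSpecializes]
    rw [e, e, hF, hG, Ideal.map_span, Ideal.map_span, Set.image_singleton, Set.image_singleton,
      Ideal.span_singleton_le_span_singleton] at hh
    let ε := IsLocalization.algEquiv p.primeCompl (S.presheaf.stalk y) (Localization.AtPrime p)
    have := map_dvd ε hh
    simpa only [AlgEquiv.commutes] using this
  apply Scheme.IdealSheafData.ext
  funext W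
  apply le_antisymm <;> refine le_of_stk _ _ W fun x hx => ?_
  · obtain ⟨g, hg, hDg⟩ := exists_gen D hD W hx
    obtain ⟨k, hk, hEk⟩ := exists_gen E hE W hx
    haveI := (hnorm x).1
    exact hfinal W x hx D E g k hDg hEk (nonZeroDivisors.ne_zero hk) fun y W hy _ _ => (hdvr y W hy).le
  · obtain ⟨g, hg, hDg⟩ := exists_gen D hD W hx
    obtain ⟨k, hk, hEk⟩ := exists_gen E hE W hx
    haveI := (hnorm x).1
    exact hfinal W x hx E D k g hEk hDg (nonZeroDivisors.ne_zero hg) fun y W hy _ _ => (hdvr y W hy).ge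

end Pullback

end Groth.Agent.CDivEq
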